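import Mathlib

/-!
# A separated morphism that is an open immersion on dense opens covering the source is an open
immersion
-/

set_option autoImplicit false
universe u

open AlgebraicGeometry CategoryTheory Limits

namespace Groth.Agent.Lib.Helper24.DenseOpen

set_option backward.isDefEq.respectTransparency false in
/-- pointwise version of `ext_of_isDominant_of_isSeparated`, without reducedness. -/
theorem apply_eq_of_isDominant_of_isSeparated {W X Y Z : Scheme.{u}} {f g : X ⟶ Y}
    (s : Y ⟶ Z) [IsSeparated s] (h : f ≫ s = g ≫ s)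
    (ι : W ⟶ X) [IsDominant ι] (hU : ι ≫ f = ι ≫ g) (x : X) : f x = g x := by
  let X' : Over Z := Over.mk (f ≫ s)
  let Y' : Over Z := Over.mk s
  let U' : Over Z := Over.mk (ι ≫ f ≫ s)
  let f' : X' ⟶ Y' := Over.homMk f
  let g' : X' ⟶ Y' := Over.homMk g
  let ι' : U' ⟶ X' := Over.homMk ι
  have : IsSeparated Y'.hom := ‹_›
  have : IsDominant (equalizer.ι f' g').left := by
    apply +allowSynthFailures IsDominant.of_comp (equalizer.lift ι' ?_).left
    · rwa [← Over.comp_left, equalizer.lift_ι]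
    · ext1; exact hU
  have hsurj : Surjective (equalizer.ι f' g').left :=
    surjective_of_isDominant_of_isClosed_range _ (Scheme.Hom.isClosedEmbedding _).isClosed_range
  obtain ⟨e, he⟩ := hsurj.surj x
  have hcond : (equalizer.ι f' g').left ≫ f = (equalizer.ι f' g').left ≫ g :=
    congr($(equalizer.condition f' g').left)
  have := congr($hcond e)
  rw [Scheme.Hom.comp_apply, Scheme.Hom.comp_apply, he] at this
  exact this

variable {X Y : Scheme.{u}} (f : X ⟶ Y)

/-- injectivity on points -/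
theorem injective_of_restrict [IsSeparated f] {ι : Type u} (U : ι → X.Opens)
    (hU : ⨆ i, U i = ⊤) (hd : ∀ i, Dense (U i : Set X)) (h : ∀ i, IsOpenImmersion ((U i).ι ≫ f)) :
    Function.Injective f := by
  intro x x' hxx'
  have hx : x ∈ ⨆ i, U i := by rw [hU]; trivial
  have hx' : x' ∈ ⨆ i, U i := by rw [hU]; trivial
  rw [TopologicalSpace.Opens.mem_iSup] at hx hx'
  obtain ⟨i, hxi⟩ := hx
  obtain ⟨k, hxk⟩ := hx'
  haveI := h i
  haveI := h k
  -- the fibre product `U_i ×_Y U_k`
  let P := pullback ((U i).ι ≫ f) ((U k).ι ≫ f)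
  let a : P ⟶ (U i).toScheme := pullback.fst _ _
  let b : P ⟶ (U k).toScheme := pullback.snd _ _
  let W : X.Opens := U i ⊓ U k
  let c : W.toScheme ⟶ P := pullback.lift (X.homOfLE inf_le_left) (X.homOfLE inf_le_right) (by
    rw [← Category.assoc, ← Category.assoc, Scheme.homOfLE_ι, Scheme.homOfLE_ι])
  have hca : c ≫ a = X.homOfLE inf_le_left := pullback.lift_fst _ _ _
  have hcb : c ≫ b = X.homOfLE inf_le_right := pullback.lift_snd _ _ _
  -- `c` is dominant
  haveI : IsDominant c := by
    constructor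
    rw [DenseRange, dense_iff_inter_open]
    intro O hO hOne
    obtain ⟨p, hp⟩ := hOne
    have haO : IsOpen (a '' O) := a.isOpenEmbedding.isOpenMap O hO
    -- `a '' O` is a nonempty open of `U i`; its image in `X` is open and meets the dense `U k`
    have haO' : IsOpen ((U i).ι '' (a '' O)) := (U i).ι.isOpenEmbedding.isOpenMap _ haO
    obtain ⟨z, hz1, hz2⟩ := (hd k).inter_open_nonempty _ haO' ⟨_, ⟨_, ⟨p, hp, rfl⟩, rfl⟩⟩
    obtain ⟨_, ⟨q, hq, rfl⟩, rfl⟩ := hz1
    have hzW : ((U i).ι (a q)) ∈ W := ⟨(a q).2, hz2⟩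
    let w : W.toScheme := ⟨_, hzW⟩
    refine ⟨q, hq, ⟨w, ?_⟩⟩
    apply a.isOpenEmbedding.injective
    have h1 := congr($hca w)
    rw [Scheme.Hom.comp_apply] at h1
    rw [h1]
    apply (U i).ι.isOpenEmbedding.injective
    have h2 := congr($(X.homOfLE_ι (inf_le_left : W ≤ U i)) w)
    rw [Scheme.Hom.comp_apply] at h2
    rw [h2]
    rfl
  have hpt := apply_eq_of_isDominant_of_isSeparated (f := a ≫ (U i).ι) (g := b ≫ (U k).ι) f
    (by rw [Category.assoc, Category.assoc]; exact pullback.condition) c (by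
      rw [← Category.assoc, ← Category.assoc, hca, hcb, Scheme.homOfLE_ι, Scheme.homOfLE_ι])
  -- a point of `P` over `(x, x')`
  let xi : (U i).toScheme := ⟨x, hxi⟩
  let xk : (U k).toScheme := ⟨x', hxk⟩
  obtain ⟨p, hp1, hp2⟩ := Scheme.Pullback.exists_preimage_pullback (f := (U i).ι ≫ f)
    (g := (U k).ι ≫ f) xi xk (by
      show f x = f x'; exact hxx')
  have := hpt p
  rw [Scheme.Hom.comp_apply, Scheme.Hom.comp_apply] at this
  have ha : a p = xi := hp1
  have hb : b p = xk := hp2
  rw [ha, hb] at this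
  exact this

set_option backward.isDefEq.respectTransparency.types false in
theorem main10877 [IsSeparated f] {ι : Type u} (U : ι → X.Opens)
    (hU : ⨆ i, U i = ⊤) (hd : ∀ i, Dense (U i : Set X)) (h : ∀ i, IsOpenImmersion ((U i).ι ≫ f)) :
    IsOpenImmersion f := by
  have hinj := injective_of_restrict f U hU hd h
  have hcover : ∀ x : X, ∃ i, x ∈ U i := fun x => by
    have hx : x ∈ ⨆ i, U i := by rw [hU]; trivial
    rwa [TopologicalSpace.Opens.mem_iSup] at hx
  have hopen : IsOpenMap f := by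
    intro O hO
    have : f '' O = ⋃ i, ((U i).ι ≫ f) '' ((U i).ι ⁻¹' O) := by
      ext y
      simp only [Set.mem_image, Set.mem_iUnion, Set.mem_preimage]
      constructor
      · rintro ⟨x, hx, rfl⟩
        obtain ⟨i, hi⟩ := hcover x
        exact ⟨i, ⟨x, hi⟩, hx, rfl⟩
      · rintro ⟨i, z, hz, rfl⟩
        exact ⟨(U i).ι z, hz, rfl⟩
    rw [this]
    refine isOpen_iUnion fun i => ?_
    haveI := h i
    exact ((U i).ι ≫ f).isOpenEmbedding.isOpenMap _ (hO.preimage (U i).ι.continuous)
  have hemb : Topology.IsOpenEmbedding f :=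
    Topology.IsOpenEmbedding.of_continuous_injective_isOpenMap f.continuous hinj hopen
  haveI : ∀ x, IsIso (f.stalkMap x) := by
    intro x
    obtain ⟨i, hi⟩ := hcover x
    haveI := h i
    let xi : (U i).toScheme := ⟨x, hi⟩
    haveI h1 : IsIso (((U i).ι ≫ f).stalkMap xi) := inferInstance
    have h2 : IsIso ((U i).ι.stalkMap xi) := inferInstance
    have hfac : f.stalkMap ((U i).ι xi) ≫ (U i).ι.stalkMap xi = ((U i).ι ≫ f).stalkMap xi :=
      (Scheme.Hom.stalkMap_comp (U i).ι f xi).symm
    exact @IsIso.of_isIso_fac_right _ _ _ _ _ _ _ _ h2 h1 hfac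
  exact IsOpenImmersion.of_isIso_stalkMap f hemb

end Groth.Agent.Lib.Helper24.DenseOpen
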